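import Groth.Agent.InvX.GenEpi
import Groth.Agent.InvX.Tensor
import Groth.Agent.InvX.GenLocusPull
import Groth.Agent.Boundary.Components
import Groth.Agent.NormX.GlueMod
import Groth.Agent.CurveDefAmple.Basic
import Groth.Agent.KFlatLib.Scheme.Exact
import Groth.Agent.AmpleX.Generated

/-!
Descent of globally generated invertible modules along a contraction.
-/

set_option linter.style.haveILetI false
set_option backward.isDefEq.respectTransparency false
set_option backward.isDefEq.respectTransparency.types false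

universe u

open CategoryTheory CategoryTheory.Limits AlgebraicGeometry TopologicalSpace

namespace Groth.Agent.ExpDescLib

open Groth.Agent

variable {X Y : Scheme.{u}}

/-- The inverse image of a globally generated module is globally generated. -/
theorem isGloballyGenerated_pullback (f : X ⟶ Y) {F : Y.Modules} (h : Curv2.IsGloballyGenerated F) :
    Curv2.IsGloballyGenerated ((Scheme.Modules.pullback f).obj F) := by
  let adj := Scheme.Modules.pullbackPushforwardAdjunction f
  obtain ⟨e⟩ := PicClLib.nonempty_pullback_structureModule f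
  refine Euler.GG.isGloballyGenerated fun T g hg => ?_
  have h0 : adj.homEquiv F T g = 0 := by
    refine DefAmple.gg_of_isGloballyGenerated h _ _ fun s => ?_
    apply (adj.homEquiv _ T).symm.injective
    rw [Adjunction.homEquiv_naturality_left_symm, Equiv.symm_apply_apply]
    have h1 := hg (e.inv ≫ (Scheme.Modules.pullback f).map s)
    rw [Category.assoc] at h1
    have h2 : (Scheme.Modules.pullback f).map s ≫ g = 0 := by
      rw [← cancel_epi e.inv, comp_zero]; exact h1
    rw [h2]
    haveI : (Scheme.Modules.pullback f).Additive := adj.left_adjoint_additive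
    rw [Adjunction.homEquiv_counit, Functor.map_zero, zero_comp]
  refine (adj.homEquiv F T).injective (h0.trans ?_)
  haveI : (Scheme.Modules.pushforward f).Additive := adj.right_adjoint_additive
  rw [Adjunction.homEquiv_unit, Functor.map_zero, comp_zero]

/-- A globally generated invertible module has a section not vanishing at a given point. -/
theorem exists_genLocus {N : X.Modules} (hN : PicF.IsInvertible N) (hgg : Curv2.IsGloballyGenerated N)
    (x : X) : ∃ s : Coh.structureModule X ⟶ N, x ∈ CohB1.genLocus N s := by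
  obtain ⟨ι, p, hp⟩ := hgg
  let O : ι → X.Modules := fun _ => Coh.structureModule X
  let s : ι → (Coh.structureModule X ⟶ N) := fun i => Sigma.ι O i ≫ p
  let G : X.Modules ⥤ ModuleCat.{u} (X.presheaf.stalk x) := DerSch.stalkFunctor X x
  haveI : Epi (G.map p) := inferInstance
  let S := Submodule.span (X.presheaf.stalk x)
    (Set.range fun i => (N.presheaf.germ ⊤ x trivial).hom (InvX.one (s i)))
  have hS : S = ⊤ := by
    let ψ : G.obj N ⟶ ModuleCat.of (X.presheaf.stalk x) ((G.obj N) ⧸ (show Submodule _ (G.obj N) from S)) :=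
      ModuleCat.ofHom (Submodule.mkQ _)
    haveI : PreservesColimitsOfShape (Discrete ι) G := inferInstance
    have h0 : G.map p ≫ ψ = 0 := by
      refine (isColimitOfPreserves G (coproductIsCoproduct O)).hom_ext fun ⟨i⟩ => ?_
      show G.map (Sigma.ι O i) ≫ G.map p ≫ ψ = G.map (Sigma.ι O i) ≫ 0
      rw [comp_zero, ← Category.assoc, ← Functor.map_comp]
      refine ModuleCat.hom_ext (LinearMap.ext fun (m : (Coh.structureModule X).presheaf.stalk x) => ?_)
      obtain ⟨V, hV, r, rfl⟩ := (Coh.structureModule X).presheaf.exists_germ_eq m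
      show Submodule.mkQ _ (Algz.stalkMapₗ (s i) x ((Coh.structureModule X).presheaf.germ V x hV r)) = 0
      refine (Submodule.Quotient.mk_eq_zero _).2 ?_
      have : Algz.stalkMapₗ (s i) x ((Coh.structureModule X).presheaf.germ V x hV r) =
          N.presheaf.germ V x hV ((s i).app V r) :=
        DerSch.stalkFunctor_map_germ x (s i) V hV r
      rw [this, InvX.app_eq_smul (s i) (show Γ(X, V) from r), QCoh.germ_smul' N hV, InvX.germ_res' _ hV]
      exact S.smul_mem _ (Submodule.subset_span ⟨i, rfl⟩)
    have hψ : ψ = 0 := by rwa [← cancel_epi (G.map p), comp_zero]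
    refine Submodule.eq_top_iff'.2 fun (m : G.obj N) => ?_
    exact (Submodule.Quotient.mk_eq_zero _).1 (congrArg (fun φ => φ.hom m) hψ)
  obtain ⟨i, U, hxU, hU⟩ := InvX.exists_frame_of_generated hN (fun i => InvX.one (s i)) x hS
  exact ⟨s i, InvX.le_genLocus (s i) hU hxU⟩

variable (π : X ⟶ Y)

/-- If functions do not change along a closed morphism, it is surjective. -/
theorem surjective_of_isIso_app (hπ : ∀ U : Y.Opens, IsIso (π.app U)) (hc : IsClosedMap π) :
    Function.Surjective π := by
  intro y
  by_contra hy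
  let U : Y.Opens := ⟨(Set.range π)ᶜ, hc.isClosed_range.isOpen_compl⟩
  have hU : π ⁻¹ᵁ U = ⊥ := Opens.ext (Set.eq_empty_of_forall_notMem fun x hx => hx ⟨x, rfl⟩)
  have h1 : (1 : Γ(Y, U)) = 0 := by
    haveI := hπ U
    refine ((ConcreteCategory.isIso_iff_bijective (π.app U)).1 inferInstance).1 ?_
    haveI : Subsingleton Γ(X, π ⁻¹ᵁ U) := by rw [hU]; infer_instance
    exact Subsingleton.elim _ _
  have : y ∈ Y.basicOpen (1 : Γ(Y, U)) := by
    rw [Y.basicOpen_of_isUnit isUnit_one]; exact fun h => hy h
  rw [h1, Scheme.basicOpen_zero] at this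
  exact this

/-- A globally generated invertible module with a power coming from the base descends. -/
theorem exists_descend (hπ : ∀ U : Y.Opens, IsIso (π.app U)) (hs : Function.Surjective π)
    {M' : Y.Modules} (hM' : PicF.IsInvertible M') {N : X.Modules} (hN : PicF.IsInvertible N)
    (hgg : Curv2.IsGloballyGenerated N) (n : ℕ)
    (φ : CohB1.tensorPow N (n + 1) ≅ (Scheme.Modules.pullback π).obj M') :
    ∃ L' : Y.Modules, PicF.IsInvertible L' ∧ Nonempty ((Scheme.Modules.pullback π).obj L' ≅ N) := by
  have hb : ∀ V : Y.Opens, Function.Bijective (π.app V) := fun V =>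
    (ConcreteCategory.isIso_iff_bijective _).1 (hπ V)
  have key : ∀ x : X, ∃ (V : Y.Opens) (_ : π x ∈ V) (e : Γ(N, π ⁻¹ᵁ V)), InvX.IsFrame e := by
    intro x
    obtain ⟨s, hxs⟩ := exists_genLocus hN hgg x
    obtain ⟨U, hU, η, hη⟩ := InvX.exists_frame hM' (π x)
    have hη' := InvX.isFrame_pullElt π hη
    let t := InvX.powHom s (n + 1) ≫ φ.hom
    obtain ⟨c, hc⟩ := hη'.exists_coord le_rfl (AModX.res _ (le_top : π ⁻¹ᵁ U ≤ ⊤) (InvX.one t))
    rw [AModX.res_self] at hc
    obtain ⟨g, rfl⟩ := (hb U).2 c
    have hloc : CohB1.genLocus N s ⊓ π ⁻¹ᵁ U = π ⁻¹ᵁ Y.basicOpen g := by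
      rw [← InvX.genLocus_powHom hN s n, ← InvX.genLocus_comp_iso (InvX.powHom s (n + 1)) φ,
        InvX.genLocus_inf t hη' hc, Scheme.preimage_basicOpen]
    refine ⟨Y.basicOpen g, ?_, AModX.res N le_top (InvX.one s), ?_⟩
    · have : x ∈ π ⁻¹ᵁ Y.basicOpen g := hloc ▸ (show x ∈ CohB1.genLocus N s ⊓ π ⁻¹ᵁ U from ⟨hxs, hU⟩)
      exact this
    · have hle : π ⁻¹ᵁ Y.basicOpen g ≤ AmpleX.locus (InvX.one s) := by
        rw [← AmpleX.genLocus_eq_locus]
        exact hloc.ge.trans inf_le_left
      exact AmpleX.isFrame_res_of_le (InvX.one s) hle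
  have hfr : ∀ (V : Y.Opens) (e : Γ(N, π ⁻¹ᵁ V)), InvX.IsFrame e →
      InvX.IsFrame (M := (Scheme.Modules.pushforward π).obj N) (U := V) e := fun V e he =>
    NormX.isFrame_pushforward π N (fun W _ => hb W) he
  refine ⟨(Scheme.Modules.pushforward π).obj N, InvX.isInvertible_of_frames fun y => ?_, ?_⟩
  · obtain ⟨x, rfl⟩ := hs y
    obtain ⟨V, hV, e, he⟩ := key x
    exact ⟨V, hV, e, hfr V e he⟩
  · choose V hV e he using key
    let adj := Scheme.Modules.pullbackPushforwardAdjunction π
    let ε := (adj.homEquiv ((Scheme.Modules.pushforward π).obj N) N).symm (𝟙 _)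
    have : IsIso ε := Boundary.isIso_of_frames ε (fun x => π ⁻¹ᵁ V x) (fun x => ⟨x, hV x⟩)
      (fun x => InvX.pullElt π (M := (Scheme.Modules.pushforward π).obj N) (U := V x) (e x))
      (fun x => InvX.isFrame_pullElt π (hfr _ _ (he x))) fun x => by
        rw [Boundary.pullback_adjunct_pullElt π (𝟙 _)]
        exact he x
    exact ⟨asIso ε⟩

end Groth.Agent.ExpDescLib
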